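import Cfsg.Agent.Lib.Helper12.TCG.Fi22Ic364.TabT

/-! relator checks for Fi22Ic364, part 1 (generated, helper12) -/

set_option autoImplicit false
set_option maxRecDepth 100000
set_option Elab.async false

namespace Cfsg.Agent.Lib.Helper12.TCG.Fi22Ic364

open Cfsg.Agent.Lib.Helper12.TC Cfsg.Agent.Lib.Helper12.TCG

theorem hperm0_0 : permPartG 18364758544493064720 TT 0 tN 0 364 = true := by decide +kernel

theorem hperm1_0 : permPartG 18364758544493064720 TT 1 tN 0 364 = true := by decide +kernel

theorem hperm2_0 : permPartG 18364758544493064720 TT 2 tN 0 364 = true := by decide +kernel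

theorem hperm3_0 : permPartG 18364758544493064720 TT 3 tN 0 364 = true := by decide +kernel

theorem hperm4_0 : permPartG 18364758544493064720 TT 4 tN 0 364 = true := by decide +kernel

theorem hperm5_0 : permPartG 18364758544493064720 TT 5 tN 0 364 = true := by decide +kernel

theorem hperm6_0 : permPartG 18364758544493064720 TT 6 tN 0 364 = true := by decide +kernel

theorem hperm7_0 : permPartG 18364758544493064720 TT 7 tN 0 364 = true := by decide +kernel

theorem hm0 : Fn.marksK TT tN [([0, 1], 3)] = true := by decide +kernel

theorem hm1 : Fn.marksK TT tN [([0, 2], 2)] = true := by decide +kernel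

theorem hm2 : Fn.marksK TT tN [([0, 3], 2)] = true := by decide +kernel

theorem hm3 : Fn.marksK TT tN [([0, 4], 2)] = true := by decide +kernel

theorem hm4 : Fn.marksK TT tN [([0, 5], 2)] = true := by decide +kernel

theorem hm5 : Fn.marksK TT tN [([0, 6], 2)] = true := by decide +kernel

theorem hm6 : Fn.marksK TT tN [([0, 7], 2)] = true := by decide +kernel

theorem hm7 : Fn.marksK TT tN [([1, 2], 3)] = true := by decide +kernel

theorem hm9 : Fn.marksK TT tN [([1, 4], 2)] = true := by decide +kernel

theorem hm11 : Fn.marksK TT tN [([1, 6], 2)] = true := by decide +kernel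

theorem hm13 : Fn.marksK TT tN [([2, 3], 3)] = true := by decide +kernel

theorem hm15 : Fn.marksK TT tN [([2, 5], 3)] = true := by decide +kernel

theorem hm17 : Fn.marksK TT tN [([2, 7], 2)] = true := by decide +kernel

theorem hm19 : Fn.marksK TT tN [([3, 5], 2)] = true := by decide +kernel

theorem hm21 : Fn.marksK TT tN [([3, 7], 2)] = true := by decide +kernel

theorem hm23 : Fn.marksK TT tN [([4, 6], 2)] = true := by decide +kernel

theorem hm25 : Fn.marksK TT tN [([5, 6], 3)] = true := by decide +kernel

theorem hm27 : Fn.marksK TT tN [([6, 7], 2)] = true := by decide +kernel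

theorem hm28 : Fn.marksK TT tN [([5, 2, 3, 1, 2, 5, 4, 3, 2, 1, 0, 1, 2, 3, 4, 5, 2, 1, 3, 2, 5, 6], 3)] = true := by decide +kernel

theorem hm32 : Fn.marksK TT tN [([2], 2)] = true := by decide +kernel

theorem hm34 : Fn.marksK TT tN [([4], 2)] = true := by decide +kernel

theorem hm36 : Fn.marksK TT tN [([6], 2)] = true := by decide +kernel

theorem hm38 : Fn.marksK TT tN [([], 1)] = true := by decide +kernel

end Cfsg.Agent.Lib.Helper12.TCG.Fi22Ic364
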