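import Cfsg.Agent.Lib.Helper12.TCG.Fi22Ic364.TabT

/-! relator checks for Fi22Ic364, part 0 (generated, helper12) -/

set_option autoImplicit false
set_option maxRecDepth 100000
set_option Elab.async false

namespace Cfsg.Agent.Lib.Helper12.TCG.Fi22Ic364

open Cfsg.Agent.Lib.Helper12.TC Cfsg.Agent.Lib.Helper12.TCG

theorem hm8 : Fn.marksK TT tN [([1, 3], 2)] = true := by decide +kernel

theorem hm10 : Fn.marksK TT tN [([1, 5], 2)] = true := by decide +kernel

theorem hm12 : Fn.marksK TT tN [([1, 7], 2)] = true := by decide +kernel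

theorem hm14 : Fn.marksK TT tN [([2, 4], 2)] = true := by decide +kernel

theorem hm16 : Fn.marksK TT tN [([2, 6], 2)] = true := by decide +kernel

theorem hm18 : Fn.marksK TT tN [([3, 4], 3)] = true := by decide +kernel

theorem hm20 : Fn.marksK TT tN [([3, 6], 2)] = true := by decide +kernel

theorem hm22 : Fn.marksK TT tN [([4, 5], 2)] = true := by decide +kernel

theorem hm24 : Fn.marksK TT tN [([4, 7], 3)] = true := by decide +kernel

theorem hm26 : Fn.marksK TT tN [([5, 7], 2)] = true := by decide +kernel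

theorem hm29 : Fn.marksK TT tN [([1, 3, 7, 5, 2, 5, 3, 2, 1, 2, 3, 5, 2, 4, 3, 2, 5, 7, 4, 3, 2, 1, 2, 3, 4, 7, 5, 2, 3, 4, 0, 1, 2, 5, 3, 4, 2, 3, 1, 2, 5, 7, 4, 3, 2, 1, 0, 1, 2, 3, 4, 7, 5, 2, 1, 3, 2, 4, 3, 5, 2, 1, 0], 1)] = true := by decide +kernel

theorem hm30 : Fn.marksK TT tN [([0], 2)] = true := by decide +kernel

theorem hm31 : Fn.marksK TT tN [([1], 2)] = true := by decide +kernel

theorem hm33 : Fn.marksK TT tN [([3], 2)] = true := by decide +kernel

theorem hm35 : Fn.marksK TT tN [([5], 2)] = true := by decide +kernel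

theorem hm37 : Fn.marksK TT tN [([7], 2)] = true := by decide +kernel

end Cfsg.Agent.Lib.Helper12.TCG.Fi22Ic364
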